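import Groth.Agent.ProjMap.Basic

/-!
# Morphisms `Pⁿ × Pᵐ ⟶ Pᴺ` given by nondegenerate bilinear forms
-/

universe u

open CategoryTheory AlgebraicGeometry MvPolynomial HomogeneousLocalization Limits TensorProduct

set_option backward.defeqAttrib.useBackward true
set_option linter.style.haveILetI false
set_option linter.unusedSectionVars false

namespace Groth.Agent.ProjMap

variable (R : Type u) [CommRing R]

/-- The chart ring. -/
abbrev AwayX (n : ℕ) (c : Fin (n + 1)) : Type u :=
  Away (CohB1.polyGrading n R) (X c : MvPolynomial (Fin (n + 1)) R)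

noncomputable instance algAway (n : ℕ) (c : Fin (n + 1)) : Algebra R (AwayX R n c) :=
  ((fromZeroRingHom (CohB1.polyGrading n R) (Submonoid.powers (X c : MvPolynomial (Fin (n + 1)) R))).comp
    (algebraMap R (CohB1.polyGrading n R 0))).toAlgebra

theorem chart_toSpec {n : ℕ} (c : Fin (n + 1)) :
    chart (R := R) c ≫ CohB1.ProjSpace.toSpec n R =
      Spec.map (CommRingCat.ofHom (algebraMap R (AwayX R n c))) := by
  rw [awayι_toSpec, ← Spec.map_comp]
  rfl

variable (n m : ℕ)

/-- `Pⁿ × Pᵐ` over `R`. -/
noncomputable abbrev prodPP : Scheme.{u} :=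
  pullback (CohB1.ProjSpace.toSpec n R) (CohB1.ProjSpace.toSpec m R)

/-- The ring of the chart `(i, j)`. -/
abbrev pieceRing (i : Fin (n + 1)) (j : Fin (m + 1)) : Type u := AwayX R n i ⊗[R] AwayX R m j

variable {n m}

/-- The inclusion of the left factor. -/
noncomputable def inclL (i : Fin (n + 1)) (j : Fin (m + 1)) : AwayX R n i →+* pieceRing R n m i j :=
  (Algebra.TensorProduct.includeLeft (R := R) (S := R) (A := AwayX R n i) (B := AwayX R m j)).toRingHom

/-- The inclusion of the right factor. -/
noncomputable def inclR (i : Fin (n + 1)) (j : Fin (m + 1)) : AwayX R m j →+* pieceRing R n m i j :=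
  (Algebra.TensorProduct.includeRight (R := R) (A := AwayX R n i) (B := AwayX R m j)).toRingHom

theorem inclL_isAlg (i : Fin (n + 1)) (j : Fin (m + 1)) : IsAlg i (inclL R i j) := fun r =>
  (Algebra.TensorProduct.includeLeft (R := R) (S := R) (A := AwayX R n i) (B := AwayX R m j)).commutes r

theorem inclR_isAlg (i : Fin (n + 1)) (j : Fin (m + 1)) : IsAlg j (inclR R i j) := fun r =>
  (Algebra.TensorProduct.includeRight (R := R) (A := AwayX R n i) (B := AwayX R m j)).commutes r

/-- The first homogeneous coordinates on a chart. -/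
noncomputable def coordsL (i : Fin (n + 1)) (j : Fin (m + 1)) : Fin (n + 1) → pieceRing R n m i j :=
  coords i (inclL R i j)

/-- The second homogeneous coordinates on a chart. -/
noncomputable def coordsR (i : Fin (n + 1)) (j : Fin (m + 1)) : Fin (m + 1) → pieceRing R n m i j :=
  coords j (inclR R i j)

@[simp] theorem coordsL_self (i : Fin (n + 1)) (j : Fin (m + 1)) : coordsL R i j i = 1 :=
  coords_self _ _

@[simp] theorem coordsR_self (i : Fin (n + 1)) (j : Fin (m + 1)) : coordsR R i j j = 1 :=
  coords_self _ _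

/-- The chart `(i, j)` of `Pⁿ × Pᵐ`. -/
noncomputable def chartXY (i : Fin (n + 1)) (j : Fin (m + 1)) :
    Spec (CommRingCat.of (pieceRing R n m i j)) ⟶ prodPP R n m :=
  pullback.lift (Spec.map (CommRingCat.ofHom (inclL R i j)) ≫ chart i)
    (Spec.map (CommRingCat.ofHom (inclR R i j)) ≫ chart j) (by
    rw [Category.assoc, Category.assoc, chart_toSpec, chart_toSpec, ← Spec.map_comp, ← Spec.map_comp]
    congr 1
    ext r
    exact (inclL_isAlg R i j r).trans (inclR_isAlg R i j r).symm)

theorem chartXY_eq (i : Fin (n + 1)) (j : Fin (m + 1)) :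
    chartXY R i j = (pullbackSpecIso R (AwayX R n i) (AwayX R m j)).inv ≫
      pullback.map _ _ _ _ (chart i) (chart j) (𝟙 _)
        (by rw [Category.comp_id, chart_toSpec]) (by rw [Category.comp_id, chart_toSpec]) := by
  apply pullback.hom_ext
  · rw [chartXY, pullback.lift_fst, Category.assoc, pullback.lift_fst, ← Category.assoc,
      pullbackSpecIso_inv_fst]
    rfl
  · rw [chartXY, pullback.lift_snd, Category.assoc, pullback.lift_snd, ← Category.assoc,
      pullbackSpecIso_inv_snd]
    rfl

instance isOpenImmersion_chartXY (i : Fin (n + 1)) (j : Fin (m + 1)) :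
    IsOpenImmersion (chartXY R i j) := by
  rw [chartXY_eq]
  infer_instance

theorem range_chartXY (i : Fin (n + 1)) (j : Fin (m + 1)) :
    (chartXY R i j).opensRange =
      pullback.fst (CohB1.ProjSpace.toSpec n R) (CohB1.ProjSpace.toSpec m R) ⁻¹ᵁ (chart i).opensRange ⊓
        pullback.snd (CohB1.ProjSpace.toSpec n R) (CohB1.ProjSpace.toSpec m R) ⁻¹ᵁ (chart j).opensRange := by
  ext1
  simp only [Scheme.Hom.coe_opensRange, TopologicalSpace.Opens.coe_inf,
    TopologicalSpace.Opens.map_coe, chartXY_eq, Scheme.Hom.comp_base, TopCat.coe_comp,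
    Set.range_comp]
  rw [Set.range_eq_univ.mpr (by exact (pullbackSpecIso R (AwayX R n i) (AwayX R m j)).inv.homeomorph.surjective),
    Set.image_univ, Scheme.Pullback.range_map]

theorem exists_chart {k : ℕ} (x : CohB1.ProjSpace k R) :
    ∃ i : Fin (k + 1), x ∈ (chart (R := R) i).opensRange := by
  have htop := Proj.iSup_basicOpen_eq_top' (CohB1.polyGrading k R)
    (fun i => (X i : MvPolynomial (Fin (k + 1)) R)) (fun i => ⟨1, X_mem i⟩) (by
      rw [eq_top_iff]
      suffices h : ∀ p, p ∈ Algebra.adjoin (CohB1.polyGrading k R 0)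
          (Set.range fun i => (X i : MvPolynomial (Fin (k + 1)) R)) from fun p _ => h p
      intro p
      induction p using MvPolynomial.induction_on with
      | C a => exact Subalgebra.algebraMap_mem _ (algebraMap R (CohB1.polyGrading k R 0) a)
      | add p q hp hq => exact Subalgebra.add_mem _ hp hq
      | mul_X p i hp => exact Subalgebra.mul_mem _ hp (Algebra.subset_adjoin ⟨i, rfl⟩))
  obtain ⟨i, hi⟩ := TopologicalSpace.Opens.mem_iSup.mp (htop.ge (show x ∈ ⊤ from trivial))
  exact ⟨i, by
    show x ∈ (Proj.awayι (CohB1.polyGrading k R) (X i) (X_mem i) one_pos).opensRange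
    rw [Proj.opensRange_awayι]; exact hi⟩

theorem exists_chartXY (x : prodPP R n m) :
    ∃ (i : Fin (n + 1)) (j : Fin (m + 1)), x ∈ (chartXY R i j).opensRange := by
  obtain ⟨i, hi⟩ := exists_chart R (pullback.fst (CohB1.ProjSpace.toSpec n R) (CohB1.ProjSpace.toSpec m R) x)
  obtain ⟨j, hj⟩ := exists_chart R (pullback.snd (CohB1.ProjSpace.toSpec n R) (CohB1.ProjSpace.toSpec m R) x)
  exact ⟨i, j, by rw [range_chartXY]; exact ⟨hi, hj⟩⟩

section Bilin

variable {N : ℕ} (M : Fin (N + 1) → Fin (n + 1) → Fin (m + 1) → ℤ)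

/-- The value of the forms. -/
def zval {A : Type*} [CommRing A] (v : Fin (n + 1) → A) (w : Fin (m + 1) → A) (c : Fin (N + 1)) : A :=
  ∑ i, ∑ j, (M c i j) • (v i * w j)

theorem map_zval {A B : Type*} [CommRing A] [CommRing B] (f : A →+* B) (v : Fin (n + 1) → A)
    (w : Fin (m + 1) → A) (c : Fin (N + 1)) :
    f (zval M v w c) = zval M (fun i => f (v i)) (fun j => f (w j)) c := by
  simp [zval, map_sum, map_zsmul]

theorem zval_smul {A : Type*} [CommRing A] {v v' : Fin (n + 1) → A} {w w' : Fin (m + 1) → A}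
    {t s : A} (hv : ∀ i, v' i = t * v i) (hw : ∀ j, w' j = s * w j) (c : Fin (N + 1)) :
    zval M v' w' c = t * s * zval M v w c := by
  simp only [zval, hv, hw, Finset.mul_sum, mul_smul_comm]
  exact Finset.sum_congr rfl fun i _ => Finset.sum_congr rfl fun j _ => by ring_nf

/-- The forms have no common zero. -/
def Nondeg : Prop :=
  ∀ (K : Type u) [Field K] (v : Fin (n + 1) → K) (w : Fin (m + 1) → K), v ≠ 0 → w ≠ 0 →
    zval M v w ≠ 0

/-- The forms on a chart. -/
noncomputable def zPiece (i : Fin (n + 1)) (j : Fin (m + 1)) (c : Fin (N + 1)) : pieceRing R n m i j :=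
  zval M (coordsL R i j) (coordsR R i j) c

/-- The index set of the cover. -/
abbrev Idx (_M : Fin (N + 1) → Fin (n + 1) → Fin (m + 1) → ℤ) : Type :=
  Fin (n + 1) × Fin (m + 1) × Fin (N + 1)

/-- The rings of the cover. -/
abbrev locRing (p : Idx M) : Type u := Localization.Away (zPiece R M p.1 p.2.1 p.2.2)

/-- The pieces of the cover. -/
noncomputable def pieceι (p : Idx M) : Spec (CommRingCat.of (locRing R M p)) ⟶ prodPP R n m :=
  Spec.map (CommRingCat.ofHom (algebraMap (pieceRing R n m p.1 p.2.1) (locRing R M p))) ≫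
    chartXY R p.1 p.2.1

instance isOpenImmersion_pieceι (p : Idx M) : IsOpenImmersion (pieceι R M p) := by
  rw [pieceι]
  haveI : IsOpenImmersion (Spec.map (CommRingCat.ofHom
      (algebraMap (pieceRing R n m p.1 p.2.1) (locRing R M p)))) :=
    IsOpenImmersion.of_isLocalization (zPiece R M p.1 p.2.1 p.2.2)
  infer_instance

theorem exists_form_notMem (hM : Nondeg.{u} M) (i : Fin (n + 1)) (j : Fin (m + 1))
    (y : PrimeSpectrum (pieceRing R n m i j)) : ∃ c, zPiece R M i j c ∉ y.asIdeal := by
  by_contra h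
  push Not at h
  let f : pieceRing R n m i j →+* y.asIdeal.ResidueField := algebraMap _ _
  refine hM _ (fun a => f (coordsL R i j a)) (fun b => f (coordsR R i j b)) ?_ ?_ (funext fun c => ?_)
  · intro h0
    have := congrFun h0 i
    simp at this
  · intro h0
    have := congrFun h0 j
    simp at this
  · rw [← map_zval]
    exact (Ideal.algebraMap_residueField_eq_zero).mpr (h c)

theorem exists_pieceι (hM : Nondeg.{u} M) (x : prodPP R n m) :
    ∃ p : Idx M, x ∈ (pieceι R M p).opensRange := by
  obtain ⟨i, j, y, rfl⟩ := exists_chartXY R x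
  obtain ⟨c, hc⟩ := exists_form_notMem R M hM i j y
  obtain ⟨z, hz⟩ : y ∈ Set.range (PrimeSpectrum.comap
      (algebraMap (pieceRing R n m i j) (Localization.Away (zPiece R M i j c)))) := by
    rw [PrimeSpectrum.localization_away_comap_range (Localization.Away (zPiece R M i j c)) (zPiece R M i j c)]
    exact hc
  exact ⟨(i, j, c), z, congrArg (chartXY R i j) hz⟩

theorem isUnit_zPiece (p : Idx M) :
    IsUnit (algebraMap (pieceRing R n m p.1 p.2.1) (locRing R M p) (zPiece R M p.1 p.2.1 p.2.2)) :=
  IsLocalization.Away.algebraMap_isUnit _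

/-- The map on one piece. -/
noncomputable def pieceMap (p : Idx M) :
    Spec (CommRingCat.of (locRing R M p)) ⟶ CohB1.ProjSpace N R :=
  point (R := R) (fun c => algebraMap (pieceRing R n m p.1 p.2.1) (locRing R M p)
    (zPiece R M p.1 p.2.1 c)) p.2.2 (isUnit_zPiece R M p)

theorem pieceMap_agree {A : Type u} [CommRing A] (p p' : Idx M) (f : locRing R M p →+* A)
    (g : locRing R M p' →+* A)
    (h : Spec.map (CommRingCat.ofHom f) ≫ pieceι R M p = Spec.map (CommRingCat.ofHom g) ≫ pieceι R M p') :
    Spec.map (CommRingCat.ofHom f) ≫ pieceMap R M p = Spec.map (CommRingCat.ofHom g) ≫ pieceMap R M p' := by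
  obtain ⟨i, j, c⟩ := p
  obtain ⟨i', j', c'⟩ := p'
  let fC := f.comp (algebraMap (pieceRing R n m i j) (locRing R M (i, j, c)))
  let gC := g.comp (algebraMap (pieceRing R n m i' j') (locRing R M (i', j', c')))
  letI : Algebra R A := (fC.comp (algebraMap R (pieceRing R n m i j))).toAlgebra
  have hC : Spec.map (CommRingCat.ofHom fC) ≫ chartXY R i j =
      Spec.map (CommRingCat.ofHom gC) ≫ chartXY R i' j' := by
    rw [pieceι, pieceι, ← Category.assoc, ← Category.assoc, ← Spec.map_comp, ← Spec.map_comp] at h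
    exact h
  have hL : Spec.map (CommRingCat.ofHom (fC.comp (inclL R i j))) ≫ chart i =
      Spec.map (CommRingCat.ofHom (gC.comp (inclL R i' j'))) ≫ chart i' := by
    have h' := congrArg (· ≫ pullback.fst _ _) hC
    simp only [chartXY, Category.assoc, pullback.lift_fst] at h'
    rw [← Category.assoc, ← Category.assoc, ← Spec.map_comp, ← Spec.map_comp] at h'
    exact h'
  have hR : Spec.map (CommRingCat.ofHom (fC.comp (inclR R i j))) ≫ chart j =
      Spec.map (CommRingCat.ofHom (gC.comp (inclR R i' j'))) ≫ chart j' := by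
    have h' := congrArg (· ≫ pullback.snd _ _) hC
    simp only [chartXY, Category.assoc, pullback.lift_snd] at h'
    rw [← Category.assoc, ← Category.assoc, ← Spec.map_comp, ← Spec.map_comp] at h'
    exact h'
  have hgalg : ∀ r, gC (algebraMap R (pieceRing R n m i' j') r) = algebraMap R A r := by
    have h' := congrArg (· ≫ CohB1.ProjSpace.toSpec n R) hL
    simp only [Category.assoc, chart_toSpec, ← Spec.map_comp] at h'
    intro r
    have h2 := DFunLike.congr_fun (congrArg CommRingCat.Hom.hom (Spec.map_injective h')) r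
    simp only [CommRingCat.hom_comp, CommRingCat.hom_ofHom, RingHom.comp_apply] at h2
    rw [show algebraMap R A r = fC (algebraMap R (pieceRing R n m i j) r) from rfl]
    have e1 := inclL_isAlg R i' j' r
    have e2 := inclL_isAlg R i j r
    rw [← e1, ← e2]
    exact h2.symm
  obtain ⟨t, ht, htc⟩ := exists_smul_of_comp_eq _ _ hL
  obtain ⟨s, hs, hsc⟩ := exists_smul_of_comp_eq _ _ hR
  have hz : ∀ a, g (algebraMap _ _ (zPiece R M i' j' a)) =
      t * s * f (algebraMap _ _ (zPiece R M i j a)) := by
    intro a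
    show gC (zval M _ _ a) = t * s * fC (zval M _ _ a)
    rw [map_zval, map_zval]
    exact zval_smul M htc hsc a
  have hf' : ∀ r, f (algebraMap R (locRing R M (i, j, c)) r) = algebraMap R A r := fun r => by
    rw [IsScalarTower.algebraMap_apply R (pieceRing R n m i j) (locRing R M (i, j, c))]
    rfl
  have hg' : ∀ r, g (algebraMap R (locRing R M (i', j', c')) r) = algebraMap R A r := fun r => by
    rw [IsScalarTower.algebraMap_apply R (pieceRing R n m i' j') (locRing R M (i', j', c'))]
    exact hgalg r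
  rw [pieceMap, pieceMap, specMap_point f hf', specMap_point g hg']
  have hu : IsUnit (g (algebraMap _ _ (zPiece R M i' j' c))) := by
    rw [hz]
    exact (ht.mul hs).mul ((isUnit_zPiece R M (i, j, c)).map f)
  exact (point_smul (R := R) (fun a => f (algebraMap _ _ (zPiece R M i j a)))
    (fun a => g (algebraMap _ _ (zPiece R M i' j' a))) (t * s) hz c
    ((isUnit_zPiece R M (i, j, c)).map f) hu).symm.trans (point_chart _ _ _ _ _)

/-- The cover. -/
noncomputable def cover (hM : Nondeg.{u} M) : (prodPP R n m).OpenCover :=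
  Scheme.Cover.mkOfCovers (Idx M) (fun p => Spec (CommRingCat.of (locRing R M p))) (pieceι R M)
    (fun x => by
      obtain ⟨p, hp⟩ := exists_pieceι R M hM x
      exact ⟨p, hp⟩)
    (fun p => isOpenImmersion_pieceι R M p)

theorem pieceMap_glue (p p' : Idx M) :
    pullback.fst (pieceι R M p) (pieceι R M p') ≫ pieceMap R M p =
      pullback.snd (pieceι R M p) (pieceι R M p') ≫ pieceMap R M p' := by
  refine (pullback (pieceι R M p) (pieceι R M p')).affineCover.hom_ext _ _ fun k => ?_
  obtain ⟨f, hf⟩ := Spec.map_surjective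
    ((pullback (pieceι R M p) (pieceι R M p')).affineCover.f k ≫ pullback.fst _ _)
  obtain ⟨g, hg⟩ := Spec.map_surjective
    ((pullback (pieceι R M p) (pieceι R M p')).affineCover.f k ≫ pullback.snd _ _)
  refine ((Category.assoc _ _ _).symm.trans ?_).trans (Category.assoc _ _ _)
  refine (congrArg (· ≫ pieceMap R M p) hf.symm).trans
    (Eq.trans ?_ (congrArg (· ≫ pieceMap R M p') hg))
  refine pieceMap_agree R M p p' f.hom g.hom ?_
  show Spec.map f ≫ pieceι R M p = Spec.map g ≫ pieceι R M p'
  rw [hf, hg, Category.assoc, Category.assoc, pullback.condition]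

/-- The morphism defined by the forms. -/
noncomputable def bilinMap (hM : Nondeg.{u} M) : prodPP R n m ⟶ CohB1.ProjSpace N R :=
  (cover R M hM).glueMorphisms (pieceMap R M) fun p p' => pieceMap_glue R M p p'

theorem pieceι_bilinMap (hM : Nondeg.{u} M) (p : Idx M) :
    pieceι R M p ≫ bilinMap R M hM = pieceMap R M p :=
  (cover R M hM).ι_glueMorphisms _ _ p

theorem bilinMap_toSpec (hM : Nondeg.{u} M) :
    bilinMap R M hM ≫ CohB1.ProjSpace.toSpec N R =
      pullback.fst (CohB1.ProjSpace.toSpec n R) (CohB1.ProjSpace.toSpec m R) ≫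
        CohB1.ProjSpace.toSpec n R := by
  refine (cover R M hM).hom_ext _ _ fun p => ?_
  show pieceι R M p ≫ _ = pieceι R M p ≫ _
  rw [← Category.assoc, pieceι_bilinMap, pieceMap, point_toSpec, pieceι, Category.assoc, chartXY,
    pullback.lift_fst_assoc, Category.assoc, chart_toSpec, ← Spec.map_comp, ← Spec.map_comp]
  congr 1

theorem chartXY_bilinMap_preimage (hM : Nondeg.{u} M) (i : Fin (n + 1)) (j : Fin (m + 1))
    {G : MvPolynomial (Fin (N + 1)) R} {d : ℕ} (hd : 0 < d) (hG : G ∈ CohB1.polyGrading N R d) :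
    (chartXY R i j ≫ bilinMap R M hM) ⁻¹ᵁ Proj.basicOpen (CohB1.polyGrading N R) G =
      PrimeSpectrum.basicOpen (aeval (zPiece R M i j) G) := by
  ext y
  obtain ⟨c, hc⟩ := exists_form_notMem R M hM i j y
  obtain ⟨z, hz⟩ : y ∈ Set.range (PrimeSpectrum.comap
      (algebraMap (pieceRing R n m i j) (Localization.Away (zPiece R M i j c)))) := by
    rw [PrimeSpectrum.localization_away_comap_range (Localization.Away (zPiece R M i j c)) (zPiece R M i j c)]
    exact hc
  subst hz
  have h1 := point_preimage_basicOpen (R := R)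
    (fun a => algebraMap (pieceRing R n m i j) (locRing R M (i, j, c)) (zPiece R M i j a)) c
    (isUnit_zPiece R M (i, j, c)) hd hG
  have h2 := SetLike.ext_iff.mp h1 z
  have h3 : pieceMap R M (i, j, c) z =
      (chartXY R i j ≫ bilinMap R M hM) (PrimeSpectrum.comap
        (algebraMap (pieceRing R n m i j) (Localization.Away (zPiece R M i j c))) z) := by
    rw [← pieceι_bilinMap R M hM (i, j, c)]
    rfl
  show (chartXY R i j ≫ bilinMap R M hM) _ ∈ Proj.basicOpen _ G ↔ _
  rw [← h3]
  refine h2.trans ?_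
  show aeval _ G ∉ z.asIdeal ↔ algebraMap _ _ (aeval (zPiece R M i j) G) ∉ z.asIdeal
  rw [← aeval_algebraMap_apply]
  exact Iff.rfl

theorem chartXY_bilinMap (hM : Nondeg.{u} M) (i : Fin (n + 1)) (j : Fin (m + 1)) (c : Fin (N + 1))
    (hc : IsUnit (zPiece R M i j c)) :
    chartXY R i j ≫ bilinMap R M hM = point (R := R) (zPiece R M i j) c hc := by
  haveI : IsIso (CommRingCat.ofHom (algebraMap (pieceRing R n m i j) (locRing R M (i, j, c)))) :=
    (ConcreteCategory.isIso_iff_bijective _).mpr
      (IsLocalization.atUnit (pieceRing R n m i j) (locRing R M (i, j, c)) _ hc).bijective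
  rw [← cancel_epi (Spec.map (CommRingCat.ofHom
    (algebraMap (pieceRing R n m i j) (locRing R M (i, j, c))))), ← Category.assoc]
  refine (pieceι_bilinMap R M hM (i, j, c)).trans ?_
  rw [specMap_point _ (fun r => (IsScalarTower.algebraMap_apply R _ _ r).symm)]
  rfl

end Bilin

end Groth.Agent.ProjMap
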