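import Groth.Agent.ProjMap.Bilin

/-!
# Base change to an arbitrary scheme
-/

universe u

open CategoryTheory AlgebraicGeometry Limits

set_option backward.defeqAttrib.useBackward true

namespace Groth.Agent.ProjMap

variable (S : Scheme.{u}) (n m : ℕ)

/-- `Pⁿ_S ×_S Pᵐ_S`. -/
noncomputable abbrev prodOver : Scheme.{u} :=
  pullback (CohB1.ProjSpaceOver.toBase n S) (CohB1.ProjSpaceOver.toBase m S)

/-- The structure morphism. -/
noncomputable abbrev prodOverToBase : prodOver S n m ⟶ S :=
  pullback.fst (CohB1.ProjSpaceOver.toBase n S) (CohB1.ProjSpaceOver.toBase m S) ≫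
    CohB1.ProjSpaceOver.toBase n S

/-- `Pⁿ_S → Pⁿ`. -/
noncomputable abbrev toInt : CohB1.ProjSpaceOver n S ⟶ CohB1.ProjSpace n (ULift.{u} ℤ) :=
  pullback.fst (CohB1.ProjSpace.toSpec n (ULift.{u} ℤ)) (specULiftZIsTerminal.from S)

variable {S} {n} in
/-- A morphism to `Pⁿ_S` from its two components. -/
noncomputable def liftOver {W : Scheme.{u}} (a : W ⟶ CohB1.ProjSpace n (ULift.{u} ℤ)) (b : W ⟶ S) :
    W ⟶ CohB1.ProjSpaceOver n S :=
  pullback.lift a b (specULiftZIsTerminal.hom_ext _ _)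

variable {S} {n} in
@[reassoc (attr := simp)] theorem liftOver_toInt {W : Scheme.{u}}
    (a : W ⟶ CohB1.ProjSpace n (ULift.{u} ℤ)) (b : W ⟶ S) : liftOver a b ≫ toInt S n = a :=
  pullback.lift_fst _ _ _

variable {S} {n} in
@[reassoc (attr := simp)] theorem liftOver_toBase {W : Scheme.{u}}
    (a : W ⟶ CohB1.ProjSpace n (ULift.{u} ℤ)) (b : W ⟶ S) :
    liftOver a b ≫ CohB1.ProjSpaceOver.toBase n S = b :=
  pullback.lift_snd _ _ _

variable {S} {n} in
theorem over_hom_ext {W : Scheme.{u}} {f g : W ⟶ CohB1.ProjSpaceOver n S}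
    (h1 : f ≫ toInt S n = g ≫ toInt S n)
    (h2 : f ≫ CohB1.ProjSpaceOver.toBase n S = g ≫ CohB1.ProjSpaceOver.toBase n S) : f = g :=
  pullback.hom_ext h1 h2

/-- The projection to `Pⁿ × Pᵐ`. -/
noncomputable def prodToInt : prodOver S n m ⟶ prodPP (ULift.{u} ℤ) n m :=
  pullback.lift (pullback.fst _ _ ≫ toInt S n) (pullback.snd _ _ ≫ toInt S m)
    (specULiftZIsTerminal.hom_ext _ _)

@[reassoc] theorem prodToInt_fst :
    prodToInt S n m ≫ pullback.fst _ _ = pullback.fst _ _ ≫ toInt S n := pullback.lift_fst _ _ _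

@[reassoc] theorem prodToInt_snd :
    prodToInt S n m ≫ pullback.snd _ _ = pullback.snd _ _ ≫ toInt S m := pullback.lift_snd _ _ _

theorem isPullback_prodToInt :
    IsPullback (prodToInt S n m) (prodOverToBase S n m)
      (pullback.fst (CohB1.ProjSpace.toSpec n (ULift.{u} ℤ)) (CohB1.ProjSpace.toSpec m (ULift.{u} ℤ)) ≫
        CohB1.ProjSpace.toSpec n (ULift.{u} ℤ)) (specULiftZIsTerminal.from S) := by
  have hw : CommSq (prodToInt S n m) (prodOverToBase S n m)
      (pullback.fst (CohB1.ProjSpace.toSpec n (ULift.{u} ℤ)) (CohB1.ProjSpace.toSpec m (ULift.{u} ℤ)) ≫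
        CohB1.ProjSpace.toSpec n (ULift.{u} ℤ)) (specULiftZIsTerminal.from S) :=
    ⟨specULiftZIsTerminal.hom_ext _ _⟩
  refine ⟨hw, ⟨PullbackCone.IsLimit.mk hw.w
    (fun s => pullback.lift (liftOver (s.fst ≫ pullback.fst _ _) s.snd)
      (liftOver (s.fst ≫ pullback.snd _ _) s.snd) (by rw [liftOver_toBase, liftOver_toBase]))
    (fun s => ?_) (fun s => ?_) (fun s g h1 h2 => ?_)⟩⟩
  · apply pullback.hom_ext
    · rw [Category.assoc, prodToInt_fst, pullback.lift_fst_assoc, liftOver_toInt]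
    · rw [Category.assoc, prodToInt_snd, pullback.lift_snd_assoc, liftOver_toInt]
  · rw [prodOverToBase, pullback.lift_fst_assoc, liftOver_toBase]
  · apply pullback.hom_ext
    · rw [pullback.lift_fst]
      apply over_hom_ext
      · rw [liftOver_toInt, ← h1, Category.assoc, Category.assoc, prodToInt_fst]
      · rw [liftOver_toBase, ← h2, Category.assoc]
    · rw [pullback.lift_snd]
      apply over_hom_ext
      · rw [liftOver_toInt, ← h1, Category.assoc, Category.assoc, prodToInt_snd]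
      · rw [liftOver_toBase, ← h2, Category.assoc]
        exact congrArg (g ≫ ·) pullback.condition.symm

variable {n m} {N : ℕ} (φ : prodPP (ULift.{u} ℤ) n m ⟶ CohB1.ProjSpace N (ULift.{u} ℤ))

/-- The base change of a morphism. -/
noncomputable def baseMap : prodOver S n m ⟶ CohB1.ProjSpaceOver N S :=
  liftOver (prodToInt S n m ≫ φ) (prodOverToBase S n m)

theorem baseMap_toBase :
    baseMap S φ ≫ CohB1.ProjSpaceOver.toBase N S = prodOverToBase S n m :=
  liftOver_toBase _ _

theorem isPullback_baseMap :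
    IsPullback (baseMap S φ) (prodToInt S n m) (toInt S N) φ := by
  have hbot : IsPullback (toInt S N) (CohB1.ProjSpaceOver.toBase N S)
      (CohB1.ProjSpace.toSpec N (ULift.{u} ℤ)) (specULiftZIsTerminal.from S) :=
    IsPullback.of_hasPullback _ _
  refine (IsPullback.of_bot ?_ ?_ hbot).flip
  · have h := isPullback_prodToInt S n m
    rw [show φ ≫ CohB1.ProjSpace.toSpec N (ULift.{u} ℤ) = pullback.fst _ _ ≫
      CohB1.ProjSpace.toSpec n (ULift.{u} ℤ) from specULiftZIsTerminal.hom_ext _ _, baseMap_toBase]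
    exact h
  · exact (liftOver_toInt _ _).symm

theorem baseMap_property (P : MorphismProperty Scheme.{u}) [P.IsStableUnderBaseChange] (hφ : P φ) :
    P (baseMap S φ) :=
  P.of_isPullback (isPullback_baseMap S φ).flip hφ

end Groth.Agent.ProjMap
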