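import Groth.Agent.ProjMap.MultMap
import Groth.Agent.ProjMap.BaseChange

/-!
# `(P¹)ⁿ ⟶ Pⁿ` finite surjective over an arbitrary base
-/

universe u

open CategoryTheory AlgebraicGeometry MvPolynomial HomogeneousLocalization Limits

set_option backward.defeqAttrib.useBackward true
set_option linter.style.haveILetI false

namespace Groth.Agent.ProjMap

theorem algebraMap_bijective_awayX_zero (R : Type u) [CommRing R] :
    Function.Bijective (algebraMap R (AwayX R 0 0)) := by
  constructor
  · intro a b h
    have := congrArg (evalAway (R := R) (fun _ => (1 : R)) (X (0 : Fin (0 + 1))) (by simp)) h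
    rw [show algebraMap R (AwayX R 0 0) a = fromZeroRingHom (CohB1.polyGrading 0 R)
        (Submonoid.powers (X 0 : MvPolynomial (Fin (0 + 1)) R)) (algebraMap R _ a) from rfl,
      show algebraMap R (AwayX R 0 0) b = fromZeroRingHom (CohB1.polyGrading 0 R)
        (Submonoid.powers (X 0 : MvPolynomial (Fin (0 + 1)) R)) (algebraMap R _ b) from rfl,
      evalAway_fromZero, evalAway_fromZero] at this
    simpa using this
  · intro x
    obtain ⟨k, p, hp, rfl⟩ := Away.mk_surjective (𝒜 := CohB1.polyGrading 0 R) (X_mem (0 : Fin (0 + 1))) x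
    refine ⟨eval (fun _ => 1) p, ?_⟩
    let φ := RingHom.id (AwayX R 0 0)
    have hφ : IsAlg 0 φ := fun r => rfl
    have h := evalAway_mk (R := R) (v := coords 0 φ) (X_mem (0 : Fin (0 + 1))) (by simp) k p hp
    rw [← eq_evalAway_coords 0 φ hφ] at h
    simp only [φ, RingHom.id_apply, aeval_X, coords_self, one_pow, mul_one] at h
    rw [h]
    have hc : coords 0 (RingHom.id (AwayX R 0 0)) = fun i => algebraMap R (AwayX R 0 0) ((fun _ => 1) i) := by
      funext i
      rw [Fin.eq_zero i, coords_self, map_one]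
    rw [hc]
    refine Eq.trans ?_ (MvPolynomial.aeval_algebraMap_apply (B := AwayX R 0 0) (fun _ : Fin (0 + 1) => (1 : R)) p).symm
    simp [MvPolynomial.aeval_eq_eval]

theorem isIso_toSpec_zero (R : Type u) [CommRing R] : IsIso (CohB1.ProjSpace.toSpec 0 R) := by
  haveI : Surjective (chart (R := R) (0 : Fin (0 + 1))) := ⟨fun x => by
    obtain ⟨i, y, hy⟩ := exists_chart R x
    obtain rfl := Fin.eq_zero i
    exact ⟨y, hy⟩⟩
  haveI : Epi (chart (R := R) (0 : Fin (0 + 1))).base := (TopCat.epi_iff_surjective _).mpr Surjective.surj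
  haveI : IsIso (chart (R := R) (0 : Fin (0 + 1))) := IsOpenImmersion.isIso _
  haveI : IsIso (CommRingCat.ofHom (algebraMap R (AwayX R 0 0))) :=
    (ConcreteCategory.isIso_iff_bijective _).mpr (algebraMap_bijective_awayX_zero R)
  haveI : IsIso (chart (R := R) (0 : Fin (0 + 1)) ≫ CohB1.ProjSpace.toSpec 0 R) := by
    rw [chart_toSpec]; infer_instance
  exact IsIso.of_isIso_comp_left (chart (R := R) (0 : Fin (0 + 1))) _

variable (S : Scheme.{u})

/-- The fibre powers of `P¹_S`. -/
noncomputable abbrev powP (n : ℕ) : Scheme.{u} :=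
  widePullback S (fun _ : Fin n => CohB1.ProjSpaceOver 1 S) (fun _ => CohB1.ProjSpaceOver.toBase 1 S)

/-- Their structure maps. -/
noncomputable abbrev powBase (n : ℕ) : powP S n ⟶ S :=
  WidePullback.base (fun _ : Fin n => CohB1.ProjSpaceOver.toBase 1 S)

theorem powBase_succ (n : ℕ) : ∃ (ψ : powP S (n + 1) ⟶ pullback (CohB1.ProjSpaceOver.toBase 1 S) (powBase S n)),
    IsIso ψ ∧ ψ ≫ pullback.fst _ _ ≫ CohB1.ProjSpaceOver.toBase 1 S = powBase S (n + 1) := by
  let p : ∀ _ : Fin (n + 1), CohB1.ProjSpaceOver 1 S ⟶ S := fun _ => CohB1.ProjSpaceOver.toBase 1 S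
  let tail : powP S (n + 1) ⟶ powP S n :=
    WidePullback.lift (powBase S (n + 1)) (fun i => WidePullback.π p i.succ) (fun i => WidePullback.π_arrow p i.succ)
  let ψ : powP S (n + 1) ⟶ pullback (CohB1.ProjSpaceOver.toBase 1 S) (powBase S n) :=
    pullback.lift (WidePullback.π p 0) tail
      ((WidePullback.π_arrow p 0).trans (WidePullback.lift_base _ _ _ _).symm)
  let inv : pullback (CohB1.ProjSpaceOver.toBase 1 S) (powBase S n) ⟶ powP S (n + 1) :=
    WidePullback.lift (pullback.fst _ _ ≫ CohB1.ProjSpaceOver.toBase 1 S)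
      (Fin.cases (pullback.fst _ _) (fun i => pullback.snd _ _ ≫ WidePullback.π _ i))
      (Fin.cases rfl fun i => by
        simp only [Fin.cases_succ, Category.assoc, WidePullback.π_arrow]
        exact pullback.condition.symm)
  refine ⟨ψ, ⟨inv, ?_, ?_⟩, ?_⟩
  · apply WidePullback.hom_ext
    · intro i
      rw [Category.assoc, Category.id_comp]
      refine (congrArg (ψ ≫ ·) (WidePullback.lift_π _ _ _ _ i)).trans ?_
      cases i using Fin.cases with
      | zero => exact pullback.lift_fst _ _ _
      | succ i => exact (pullback.lift_snd_assoc _ _ _ _).trans (WidePullback.lift_π _ _ _ _ i)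
    · rw [Category.assoc, Category.id_comp]
      refine (congrArg (ψ ≫ ·) (WidePullback.lift_base _ _ _ _)).trans ?_
      exact (pullback.lift_fst_assoc _ _ _ _).trans (WidePullback.π_arrow p 0)
  · apply pullback.hom_ext
    · rw [Category.assoc, Category.id_comp, pullback.lift_fst]
      exact WidePullback.lift_π _ _ _ _ 0
    · rw [Category.assoc, Category.id_comp, pullback.lift_snd]
      apply WidePullback.hom_ext
      · intro i
        rw [Category.assoc]
        exact (congrArg (inv ≫ ·) (WidePullback.lift_π _ _ _ _ i)).trans (WidePullback.lift_π _ _ _ _ i.succ)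
      · rw [Category.assoc]
        exact ((congrArg (inv ≫ ·) (WidePullback.lift_base _ _ _ _)).trans
          (WidePullback.lift_base _ _ _ _)).trans pullback.condition
  · exact (pullback.lift_fst_assoc _ _ _ _).trans (WidePullback.π_arrow p 0)

theorem exists_finite_surjective (n : ℕ) :
    ∃ φ : powP S n ⟶ CohB1.ProjSpaceOver n S,
      IsFinite φ ∧ Surjective φ ∧ φ ≫ CohB1.ProjSpaceOver.toBase n S = powBase S n := by
  induction n with
  | zero =>
    haveI := isIso_toSpec_zero (ULift.{u} ℤ)
    haveI hb : IsIso (CohB1.ProjSpaceOver.toBase 0 S) :=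
      inferInstanceAs (IsIso (pullback.snd (CohB1.ProjSpace.toSpec 0 (ULift.{u} ℤ)) _))
    haveI : IsIso (powBase S 0) := ⟨WidePullback.lift (𝟙 S) (fun i => i.elim0) (fun i => i.elim0),
      WidePullback.hom_ext _ _ _ (fun i => i.elim0) (by rw [Category.assoc, WidePullback.lift_base, Category.comp_id, Category.id_comp]), WidePullback.lift_base _ _ _ _⟩
    exact ⟨powBase S 0 ≫ inv (CohB1.ProjSpaceOver.toBase 0 S), inferInstance, inferInstance, by simp⟩
  | succ n ih =>
    obtain ⟨φ, hfin, hsurj, hφ⟩ := ih
    obtain ⟨ψ, hψ, hψb⟩ := powBase_succ S n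
    let m : pullback (CohB1.ProjSpaceOver.toBase 1 S) (powBase S n) ⟶ prodOver S 1 n :=
      pullback.lift (pullback.fst _ _) (pullback.snd _ _ ≫ φ) (by
        rw [Category.assoc, hφ]; exact pullback.condition)
    have hpb : IsPullback m (pullback.snd (CohB1.ProjSpaceOver.toBase 1 S) (powBase S n))
        (pullback.snd (CohB1.ProjSpaceOver.toBase 1 S) (CohB1.ProjSpaceOver.toBase n S)) φ := by
      refine IsPullback.of_right ?_ (pullback.lift_snd _ _ _)
        (IsPullback.of_hasPullback (CohB1.ProjSpaceOver.toBase 1 S) (CohB1.ProjSpaceOver.toBase n S))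
      rw [show m ≫ pullback.fst _ _ = pullback.fst _ _ from pullback.lift_fst _ _ _, hφ]
      exact IsPullback.of_hasPullback _ _
    haveI : IsFinite m := MorphismProperty.of_isPullback hpb.flip hfin
    haveI : Surjective m := MorphismProperty.of_isPullback hpb.flip hsurj
    haveI := isFinite_multMap n (ULift.{u} ℤ)
    haveI := surjective_multMap n (ULift.{u} ℤ)
    haveI : IsFinite (baseMap S (multMap n (ULift.{u} ℤ))) := baseMap_property S _ @IsFinite inferInstance
    haveI : Surjective (baseMap S (multMap n (ULift.{u} ℤ))) := baseMap_property S _ @Surjective inferInstance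
    refine ⟨ψ ≫ m ≫ baseMap S (multMap n (ULift.{u} ℤ)), inferInstance, inferInstance, ?_⟩
    rw [Category.assoc, Category.assoc, baseMap_toBase, ← hψb]
    exact congrArg (ψ ≫ ·) (pullback.lift_fst_assoc _ _ _ _)

end Groth.Agent.ProjMap
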