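import Groth.Agent.ProjMap.Bilin

/-!
# The Segre embedding
-/

universe u

open CategoryTheory AlgebraicGeometry MvPolynomial HomogeneousLocalization Limits TensorProduct

set_option backward.defeqAttrib.useBackward true
set_option linter.style.haveILetI false
set_option linter.unusedSectionVars false

namespace Groth.Agent.ProjMap

variable (R : Type u) [CommRing R] {n m N : ℕ}

theorem mem_opensRange_chart {k : ℕ} (i : Fin (k + 1)) :
    (chart (R := R) i).opensRange = Proj.basicOpen (CohB1.polyGrading k R) (X i) := by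
  show (Proj.awayι (CohB1.polyGrading k R) (X i) (X_mem i) one_pos).opensRange = _
  rw [Proj.opensRange_awayι]

/-- The standard charts as an open cover. -/
noncomputable def chartCover (k : ℕ) : (CohB1.ProjSpace k R).OpenCover :=
  Scheme.Cover.mkOfCovers (Fin (k + 1))
    (fun c => Spec (CommRingCat.of (AwayX R k c))) (fun c => chart c)
    (fun x => exists_chart R x) (fun _ => inferInstance)

theorem eval_fst_chartXY (i : Fin (n + 1)) (j : Fin (m + 1)) (k : Fin (n + 1))
    (y : PrimeSpectrum (pieceRing R n m i j)) :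
    (chartXY R i j y ∈ pullback.fst (CohB1.ProjSpace.toSpec n R) (CohB1.ProjSpace.toSpec m R) ⁻¹ᵁ
      (chart k).opensRange) ↔ coordsL R i j k ∉ y.asIdeal := by
  have h : chartXY R i j ≫ pullback.fst (CohB1.ProjSpace.toSpec n R) (CohB1.ProjSpace.toSpec m R) =
      point (R := R) (coordsL R i j) i (by simp) := by
    rw [chartXY, pullback.lift_fst]
    exact (point_coords i (inclL R i j) (inclL_isAlg R i j)).symm
  have h1 := SetLike.ext_iff.mp (point_preimage_basicOpen (R := R) (coordsL R i j) i (by simp)
    one_pos (X_mem k)) y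
  rw [← h, aeval_X] at h1
  rw [mem_opensRange_chart]
  exact h1

theorem eval_snd_chartXY (i : Fin (n + 1)) (j : Fin (m + 1)) (k : Fin (m + 1))
    (y : PrimeSpectrum (pieceRing R n m i j)) :
    (chartXY R i j y ∈ pullback.snd (CohB1.ProjSpace.toSpec n R) (CohB1.ProjSpace.toSpec m R) ⁻¹ᵁ
      (chart k).opensRange) ↔ coordsR R i j k ∉ y.asIdeal := by
  have h : chartXY R i j ≫ pullback.snd (CohB1.ProjSpace.toSpec n R) (CohB1.ProjSpace.toSpec m R) =
      point (R := R) (coordsR R i j) j (by simp) := by
    rw [chartXY, pullback.lift_snd]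
    exact (point_coords j (inclR R i j) (inclR_isAlg R i j)).symm
  have h1 := SetLike.ext_iff.mp (point_preimage_basicOpen (R := R) (coordsR R i j) j (by simp)
    one_pos (X_mem k)) y
  rw [← h, aeval_X] at h1
  rw [mem_opensRange_chart]
  exact h1

variable (e : Fin (n + 1) × Fin (m + 1) ≃ Fin (N + 1))

/-- The coefficients of the Segre forms. -/
def segreM : Fin (N + 1) → Fin (n + 1) → Fin (m + 1) → ℤ :=
  fun c i j => if e (i, j) = c then 1 else 0

theorem zval_segreM {A : Type*} [CommRing A] (v : Fin (n + 1) → A) (w : Fin (m + 1) → A)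
    (i : Fin (n + 1)) (j : Fin (m + 1)) : zval (segreM e) v w (e (i, j)) = v i * w j := by
  classical
  simp only [zval, segreM, EmbeddingLike.apply_eq_iff_eq, Prod.mk.injEq]
  rw [Finset.sum_eq_single i, Finset.sum_eq_single j]
  · simp
  · intro b _ hb; simp [hb]
  · simp
  · intro a _ ha; simp [ha]
  · simp

theorem segreM_nondeg : Nondeg.{u} (segreM e) := by
  intro K _ v w hv hw h
  obtain ⟨i, hi⟩ := Function.ne_iff.mp hv
  obtain ⟨j, hj⟩ := Function.ne_iff.mp hw
  have := congrFun h (e (i, j))
  rw [zval_segreM] at this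
  exact mul_ne_zero hi hj this

/-- The Segre morphism. -/
noncomputable def segre : prodPP R n m ⟶ CohB1.ProjSpace N R :=
  bilinMap R (segreM e) (segreM_nondeg e)

theorem segre_preimage (i : Fin (n + 1)) (j : Fin (m + 1)) :
    segre R e ⁻¹ᵁ (chart (e (i, j))).opensRange = (chartXY R i j).opensRange := by
  ext x
  obtain ⟨k, l, y, rfl⟩ := exists_chartXY R x
  rw [range_chartXY]
  show _ ↔ (chartXY R k l y ∈ pullback.fst (CohB1.ProjSpace.toSpec n R) (CohB1.ProjSpace.toSpec m R) ⁻¹ᵁ
      (chart i).opensRange) ∧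
    (chartXY R k l y ∈ pullback.snd (CohB1.ProjSpace.toSpec n R) (CohB1.ProjSpace.toSpec m R) ⁻¹ᵁ
      (chart j).opensRange)
  rw [eval_fst_chartXY, eval_snd_chartXY, mem_opensRange_chart]
  refine (SetLike.ext_iff.mp (chartXY_bilinMap_preimage R (segreM e) (segreM_nondeg e) k l
    one_pos (X_mem (e (i, j)))) y).trans ?_
  show aeval (zPiece R (segreM e) k l) (X (e (i, j)) : MvPolynomial (Fin (N + 1)) R) ∉ y.asIdeal ↔ _
  rw [aeval_X, zPiece, zval_segreM, y.isPrime.mul_mem_iff_mem_or_mem, not_or]

theorem isClosedImmersion_segre : IsClosedImmersion (segre R e) := by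
  refine IsZariskiLocalAtTarget.of_openCover (chartCover R N) fun c => ?_
  obtain ⟨⟨i, j⟩, rfl⟩ := e.surjective c
  show IsClosedImmersion (pullback.snd (segre R e) (chart (e (i, j))))
  let z := zPiece R (segreM e) i j
  have hz : z (e (i, j)) = 1 := by simp [z, zPiece, zval_segreM]
  have hu : IsUnit (z (e (i, j))) := by rw [hz]; exact isUnit_one
  have hu' : IsUnit (aeval z (X (e (i, j)) : MvPolynomial (Fin (N + 1)) R)) := by
    rw [aeval_X]; exact hu
  let E := evalAway (R := R) z (X (e (i, j))) hu'
  have hsq : chartXY R i j ≫ segre R e = Spec.map (CommRingCat.ofHom E) ≫ chart (e (i, j)) := by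
    rw [segre, chartXY_bilinMap R (segreM e) (segreM_nondeg e) i j (e (i, j)) hu]
    rfl
  have hpb := IsOpenImmersion.isPullback (Spec.map (CommRingCat.ofHom E)) (chartXY R i j)
    (chart (e (i, j))) (segre R e) hsq (segre_preimage R e i j)
  have hEq : pullback.snd (segre R e) (chart (e (i, j))) =
      (hpb.flip).isoPullback.inv ≫ Spec.map (CommRingCat.ofHom E) := (hpb.flip).isoPullback_inv_snd.symm
  rw [hEq, MorphismProperty.cancel_left_of_respectsIso @IsClosedImmersion]
  refine IsClosedImmersion.spec_of_surjective _ ?_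
  show Function.Surjective E
  have hmk : ∀ d, E (Away.mk (CohB1.polyGrading N R) (X_mem (e (i, j))) 1 (X d)
      (by simpa using X_mem (R := R) d)) = z d := by
    intro d
    have h := evalAway_mk (v := z) (X_mem (e (i, j))) hu' 1 (X d) (by simpa using X_mem (R := R) d)
    rw [aeval_X, aeval_X, pow_one, hz, mul_one] at h
    exact h
  let S : Subalgebra R (pieceRing R n m i j) :=
    { E.range.toSubsemiring with
      algebraMap_mem' := fun r => ⟨_, evalAway_fromZero z (X (e (i, j))) hu' r⟩ }
  have hL : ∀ a, coordsL R i j a ∈ S := fun a => ⟨_, (hmk (e (a, j))).trans (by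
    simp [z, zPiece, zval_segreM])⟩
  have hR : ∀ b, coordsR R i j b ∈ S := fun b => ⟨_, (hmk (e (i, b))).trans (by
    simp [z, zPiece, zval_segreM])⟩
  have haev : ∀ {k : ℕ} (v : Fin (k + 1) → pieceRing R n m i j), (∀ a, v a ∈ S) →
      ∀ p : MvPolynomial (Fin (k + 1)) R, aeval v p ∈ S := by
    intro k v hv p
    have hle : Algebra.adjoin R (Set.range v) ≤ S :=
      Algebra.adjoin_le (by rintro _ ⟨a, rfl⟩; exact hv a)
    exact hle (by rw [Algebra.adjoin_range_eq_range_aeval]; exact ⟨p, rfl⟩)
  intro w
  suffices h : w ∈ S from h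
  induction w using TensorProduct.induction_on with
  | zero => exact S.zero_mem
  | add a b ha hb => exact S.add_mem ha hb
  | tmul a b =>
    rw [show a ⊗ₜ[R] b = inclL R i j a * inclR R i j b by simp [inclL, inclR]]
    refine S.mul_mem ?_ ?_
    · obtain ⟨k, p, hp, rfl⟩ := Away.mk_surjective (𝒜 := CohB1.polyGrading n R) (X_mem i) a
      rw [eq_evalAway_coords i (inclL R i j) (inclL_isAlg R i j)]
      have h := evalAway_mk (v := coordsL R i j) (X_mem i) (by simp) k p hp
      simp only [aeval_X, coordsL_self, one_pow, mul_one] at h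
      exact (congrArg (· ∈ S) h).mpr (haev _ hL p)
    · obtain ⟨k, p, hp, rfl⟩ := Away.mk_surjective (𝒜 := CohB1.polyGrading m R) (X_mem j) b
      rw [eq_evalAway_coords j (inclR R i j) (inclR_isAlg R i j)]
      have h := evalAway_mk (v := coordsR R i j) (X_mem j) (by simp) k p hp
      simp only [aeval_X, coordsR_self, one_pow, mul_one] at h
      exact (congrArg (· ∈ S) h).mpr (haev _ hR p)

end Groth.Agent.ProjMap
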