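import Mathlib
import Groth.Prelude.Def_CohB1

/-!
# Ring-valued points of projective space given by homogeneous coordinates
-/

universe u

open CategoryTheory AlgebraicGeometry MvPolynomial HomogeneousLocalization

set_option backward.defeqAttrib.useBackward true
set_option linter.style.haveILetI false

namespace Groth.Agent.ProjMap

variable {n : ℕ} {R : Type u} [CommRing R] {A B : Type u} [CommRing A] [CommRing B]
  [Algebra R A] [Algebra R B]

local notation "𝒢" => CohB1.polyGrading n R

theorem X_mem (c : Fin (n + 1)) : (X c : MvPolynomial (Fin (n + 1)) R) ∈ 𝒢 1 :=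
  isHomogeneous_X R c

/-- Evaluation of degree-zero fractions at a tuple. -/
noncomputable def evalAway (v : Fin (n + 1) → A) (G : MvPolynomial (Fin (n + 1)) R)
    (hu : IsUnit (aeval v G)) : Away 𝒢 G →+* A :=
  (IsLocalization.Away.lift (S := Localization.Away G) G
    (g := (aeval v : MvPolynomial (Fin (n + 1)) R →ₐ[R] A).toRingHom) hu).comp
    (algebraMap (Away 𝒢 G) (Localization.Away G))

/-- `φ(a/Gᵏ) G(v)ᵏ = a(v)` characterises the evaluation. -/
theorem evalAway_mk {v : Fin (n + 1) → A} {G : MvPolynomial (Fin (n + 1)) R} {d : ℕ}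
    (hG : G ∈ 𝒢 d) (hu : IsUnit (aeval v G)) (k : ℕ) (a : MvPolynomial (Fin (n + 1)) R)
    (ha : a ∈ 𝒢 (k • d)) :
    evalAway v G hu (Away.mk 𝒢 hG k a ha) * aeval v G ^ k = aeval v a := by
  have h : val (Away.mk 𝒢 hG k a ha) * algebraMap _ (Localization.Away G) (G ^ k) =
      algebraMap _ (Localization.Away G) a := by
    rw [Away.val_mk, ← Localization.mk_one_eq_algebraMap, ← Localization.mk_one_eq_algebraMap,
      Localization.mk_mul, Localization.mk_eq_mk_iff, Localization.r_iff_exists]
    exact ⟨1, by simp [mul_comm]⟩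
  have h2 := congrArg (IsLocalization.Away.lift (S := Localization.Away G) G
    (g := (aeval v : MvPolynomial (Fin (n + 1)) R →ₐ[R] A).toRingHom) hu) h
  rw [map_mul, IsLocalization.Away.lift_eq, IsLocalization.Away.lift_eq] at h2
  simpa [evalAway, HomogeneousLocalization.algebraMap_apply] using h2

theorem evalAway_fromZero (v : Fin (n + 1) → A) (G : MvPolynomial (Fin (n + 1)) R)
    (hu : IsUnit (aeval v G)) (r : R) :
    evalAway v G hu (fromZeroRingHom 𝒢 (Submonoid.powers G) (algebraMap R (𝒢 0) r)) =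
      algebraMap R A r := by
  have : val (fromZeroRingHom 𝒢 (Submonoid.powers G) (algebraMap R (𝒢 0) r)) =
      algebraMap (MvPolynomial (Fin (n + 1)) R) (Localization (Submonoid.powers G)) (C r) :=
    (val_mk _).trans (Localization.mk_one_eq_algebraMap _)
  rw [evalAway, RingHom.comp_apply, HomogeneousLocalization.algebraMap_apply, this,
    IsLocalization.Away.lift_eq]
  simp

/-- Two evaluations agree when they agree up to the characterising equation. -/
theorem ringHom_eq_evalAway {v : Fin (n + 1) → A} {G : MvPolynomial (Fin (n + 1)) R} {d : ℕ}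
    (hG : G ∈ 𝒢 d) (hu : IsUnit (aeval v G)) (φ : Away 𝒢 G →+* A)
    (h : ∀ (k : ℕ) (a : MvPolynomial (Fin (n + 1)) R) (ha : a ∈ 𝒢 (k • d)),
      φ (Away.mk 𝒢 hG k a ha) * aeval v G ^ k = aeval v a) :
    φ = evalAway v G hu := by
  refine RingHom.ext fun x => ?_
  obtain ⟨k, a, ha, rfl⟩ := Away.mk_surjective (𝒜 := 𝒢) hG x
  exact (hu.pow k).mul_left_inj.mp ((h k a ha).trans (evalAway_mk hG hu k a ha).symm)

theorem comp_evalAway (f : A →+* B) (hf : ∀ r, f (algebraMap R A r) = algebraMap R B r)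
    {v : Fin (n + 1) → A} {G : MvPolynomial (Fin (n + 1)) R} {d : ℕ}
    (hG : G ∈ 𝒢 d) (hu : IsUnit (aeval v G)) (hu' : IsUnit (aeval (fun c => f (v c)) G)) :
    f.comp (evalAway v G hu) = evalAway (fun c => f (v c)) G hu' := by
  refine ringHom_eq_evalAway hG hu' _ fun k a ha => ?_
  let fa : A →ₐ[R] B := { f with commutes' := hf }
  have hfa : ∀ b, aeval (fun c => f (v c)) b = f (aeval v b) := fun b =>
    (DFunLike.congr_fun (comp_aeval (φ := fa) (f := v)) b).symm
  rw [hfa, hfa, RingHom.comp_apply, ← map_pow, ← map_mul, evalAway_mk]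

/-- Evaluations at proportional tuples agree. -/
theorem evalAway_smul {v w : Fin (n + 1) → A} {t : A} (hw : ∀ c, w c = t * v c)
    {G : MvPolynomial (Fin (n + 1)) R} {d : ℕ} (hG : G ∈ 𝒢 d) (hu : IsUnit (aeval v G))
    (hu' : IsUnit (aeval w G)) :
    evalAway w G hu' = evalAway v G hu := by
  have hev : ∀ {e : ℕ} (b : MvPolynomial (Fin (n + 1)) R), b ∈ 𝒢 e →
      aeval w b = t ^ e * aeval v b := by
    intro e b hb
    rw [aeval_def, aeval_def, eval₂_eq, eval₂_eq, Finset.mul_sum]
    refine Finset.sum_congr rfl fun m hm => ?_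
    have hdeg : ∑ i ∈ m.support, m i = e := by
      have h := hb (mem_support_iff.mp hm)
      simpa [Finsupp.weight_apply, Finsupp.sum] using h
    simp only [hw, mul_pow, Finset.prod_mul_distrib]
    rw [Finset.prod_pow_eq_pow_sum, hdeg]
    ring
  refine (ringHom_eq_evalAway hG hu' _ fun k a ha => ?_).symm
  rw [hev a ha, hev G hG, mul_pow, ← evalAway_mk hG hu k a ha, ← pow_mul, smul_eq_mul, mul_comm d k]
  ring

theorem evalAway_comp_awayMap {v : Fin (n + 1) → A} {G H P : MvPolynomial (Fin (n + 1)) R}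
    {d e : ℕ} (hG : G ∈ 𝒢 d) (hH : H ∈ 𝒢 e) (hP : P = G * H) (hu : IsUnit (aeval v G))
    (hu' : IsUnit (aeval v P)) :
    (evalAway v P hu').comp (awayMap 𝒢 hH hP) = evalAway v G hu := by
  refine ringHom_eq_evalAway hG hu _ fun k a ha => ?_
  rw [RingHom.comp_apply, awayMap_mk]
  refine (hu'.pow k).mul_left_inj.mp ?_
  rw [mul_right_comm, evalAway_mk]
  subst hP
  rw [map_mul, map_mul, map_pow, mul_pow]
  ring

/-- The `c`-th standard chart of `Pⁿ`. -/
noncomputable def chart (c : Fin (n + 1)) :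
    Spec (CommRingCat.of (Away 𝒢 (X c : MvPolynomial (Fin (n + 1)) R))) ⟶ CohB1.ProjSpace n R :=
  Proj.awayι 𝒢 (X c) (X_mem c) one_pos

instance (c : Fin (n + 1)) : IsOpenImmersion (chart (R := R) c) :=
  inferInstanceAs (IsOpenImmersion (Proj.awayι 𝒢 (X c) (X_mem c) one_pos))

/-- The `A`-point of `Pⁿ` with homogeneous coordinates `v`, read in the chart `c`. -/
noncomputable def point (v : Fin (n + 1) → A) (c : Fin (n + 1)) (hc : IsUnit (v c)) :
    Spec (CommRingCat.of A) ⟶ CohB1.ProjSpace n R :=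
  Spec.map (CommRingCat.ofHom (evalAway (R := R) v (X c) (by simpa using hc))) ≫
    chart c

theorem point_chart (v : Fin (n + 1) → A) (c d : Fin (n + 1)) (hc : IsUnit (v c))
    (hd : IsUnit (v d)) : point (R := R) v c hc = point v d hd := by
  have hP : IsUnit (aeval v ((X c : MvPolynomial (Fin (n + 1)) R) * X d)) := by
    simpa using hc.mul hd
  have h1 := evalAway_comp_awayMap (v := v) (X_mem c) (X_mem d)
    (P := (X c : MvPolynomial (Fin (n + 1)) R) * X d) rfl (by simpa using hc) hP
  have h2 := evalAway_comp_awayMap (v := v) (X_mem d) (X_mem c)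
    (P := (X c : MvPolynomial (Fin (n + 1)) R) * X d) (mul_comm _ _) (by simpa using hd) hP
  simp only [point, ← h1, ← h2, CommRingCat.ofHom_comp, Spec.map_comp, Category.assoc]
  congr 1
  exact (Proj.SpecMap_awayMap_awayι 𝒢 (X_mem (R := R) c) one_pos (X_mem d) rfl).trans
    (Proj.SpecMap_awayMap_awayι 𝒢 (X_mem (R := R) d) one_pos (X_mem c) (mul_comm _ _)).symm

theorem point_smul (v w : Fin (n + 1) → A) (t : A) (hw : ∀ c, w c = t * v c) (c : Fin (n + 1))
    (hv : IsUnit (v c)) (hwc : IsUnit (w c)) :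
    point (R := R) w c hwc = point v c hv := by
  rw [point, point, evalAway_smul hw (X_mem c)]

theorem specMap_point (f : A →+* B) (hf : ∀ r, f (algebraMap R A r) = algebraMap R B r)
    (v : Fin (n + 1) → A) (c : Fin (n + 1)) (hc : IsUnit (v c)) :
    Spec.map (CommRingCat.ofHom f) ≫ point (R := R) v c hc =
      point (fun i => f (v i)) c (hc.map f) := by
  rw [point, point, ← Category.assoc, ← Spec.map_comp, ← CommRingCat.ofHom_comp,
    comp_evalAway f hf (X_mem c)]

theorem awayι_toSpec (c : Fin (n + 1)) :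
    chart c ≫ CohB1.ProjSpace.toSpec n R =
      Spec.map (CommRingCat.ofHom (fromZeroRingHom 𝒢 (Submonoid.powers (X c)))) ≫
        Spec.map (CommRingCat.ofHom (algebraMap R (𝒢 0))) :=
  Proj.awayι_toSpecZero_assoc 𝒢 (X c) (X_mem c) one_pos _

theorem point_toSpec (v : Fin (n + 1) → A) (c : Fin (n + 1)) (hc : IsUnit (v c)) :
    point (R := R) v c hc ≫ CohB1.ProjSpace.toSpec n R =
      Spec.map (CommRingCat.ofHom (algebraMap R A)) := by
  rw [point, Category.assoc, awayι_toSpec, ← Spec.map_comp, ← Spec.map_comp]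
  congr 1
  ext r
  exact evalAway_fromZero v (X c) (by simpa using hc) r

theorem point_preimage_basicOpen (v : Fin (n + 1) → A) (c : Fin (n + 1)) (hc : IsUnit (v c))
    {G : MvPolynomial (Fin (n + 1)) R} {d : ℕ} (hd : 0 < d) (hG : G ∈ 𝒢 d) :
    point (R := R) v c hc ⁻¹ᵁ Proj.basicOpen 𝒢 G = PrimeSpectrum.basicOpen (aeval v G) := by
  have hu : IsUnit (aeval v (X c : MvPolynomial (Fin (n + 1)) R)) := by rw [aeval_X]; exact hc
  have h := evalAway_mk (v := v) (X_mem c) hu d (G ^ 1) (by rw [pow_one, smul_eq_mul, mul_one]; exact hG)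
  simp only [aeval_X, pow_one] at h
  have hel : Away.mk 𝒢 (X_mem c) d G (by rw [smul_eq_mul, mul_one]; exact hG) =
      Away.isLocalizationElem (𝒜 := 𝒢) (X_mem c) hG := by
    refine val_injective _ ?_
    simp only [Away.isLocalizationElem, Away.val_mk, pow_one]
  rw [hel] at h
  rw [point, Scheme.Hom.comp_preimage]
  refine (congrArg (Spec.map (CommRingCat.ofHom (evalAway (R := R) v (X c) hu)) ⁻¹ᵁ ·)
    (Proj.awayι_preimage_basicOpen 𝒢 (X_mem (R := R) c) one_pos hG hd)).trans ?_
  apply TopologicalSpace.Opens.ext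
  ext x
  show evalAway v (X c : MvPolynomial (Fin (n + 1)) R) hu
      (Away.isLocalizationElem (𝒜 := 𝒢) (X_mem c) hG) ∉ x.asIdeal ↔ aeval v G ∉ x.asIdeal
  rw [← h, not_iff_not, x.isPrime.mul_mem_iff_mem_or_mem]
  exact ⟨Or.inl, fun h => h.resolve_right fun h' => x.isPrime.ne_top
    (Ideal.eq_top_of_isUnit_mem _ h' (hc.pow d))⟩

/-- The coordinates of a morphism into a chart. -/
noncomputable def coords (c : Fin (n + 1)) (φ : Away 𝒢 (X c) →+* A) (i : Fin (n + 1)) : A :=
  φ (Away.mk 𝒢 (X_mem c) 1 (X i) (by simpa using X_mem (R := R) i))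

@[simp] theorem coords_self (c : Fin (n + 1)) (φ : Away 𝒢 (X c) →+* A) : coords c φ c = 1 := by
  rw [coords, ← map_one φ]
  congr 1
  refine val_injective _ ?_
  rw [Away.val_mk, HomogeneousLocalization.val_one, ← Localization.mk_one,
    Localization.mk_eq_mk_iff, Localization.r_iff_exists]
  exact ⟨1, by simp⟩

/-- Compatibility with the base ring. -/
def IsAlg (c : Fin (n + 1)) (φ : Away 𝒢 (X c) →+* A) : Prop :=
  ∀ r, φ (fromZeroRingHom 𝒢 (Submonoid.powers (X c)) (algebraMap R (𝒢 0) r)) = algebraMap R A r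

/-- A morphism into a chart is evaluation at its coordinates. -/
theorem eq_evalAway_coords (c : Fin (n + 1)) (φ : Away 𝒢 (X c) →+* A) (hφ : IsAlg c φ) :
    φ = evalAway (R := R) (coords c φ) (X c) (by simp) := by
  refine ringHom_eq_evalAway (X_mem c) _ φ fun k a ha => ?_
  rw [aeval_X, coords_self, one_pow, mul_one]
  let e : Fin (n + 1) → Away 𝒢 (X c) := fun i =>
    Away.mk 𝒢 (X_mem c) 1 (X i) (by simpa using X_mem (R := R) i)
  let z : R →+* Away 𝒢 (X c) :=
    (fromZeroRingHom 𝒢 (Submonoid.powers (X c))).comp (algebraMap R (𝒢 0))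
  have hmk : Away.mk 𝒢 (X_mem c) k a ha = eval₂Hom z e a := by
    refine val_injective _ ?_
    let V : Away 𝒢 (X c) →+* Localization.Away (X c : MvPolynomial (Fin (n + 1)) R) :=
      algebraMap _ _
    rw [Away.val_mk, ← HomogeneousLocalization.algebraMap_apply]
    show _ = V (eval₂Hom z e a)
    rw [map_eval₂Hom]
    have hz : V.comp z = (algebraMap _ (Localization.Away (X c : MvPolynomial (Fin (n + 1)) R))).comp C :=
      RingHom.ext fun r => (val_mk _).trans (Localization.mk_one_eq_algebraMap _)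
    rw [Localization.mk_eq_mk', IsLocalization.mk'_eq_iff_eq_mul]
    show algebraMap _ _ a = eval₂Hom (V.comp z) (fun i => V (e i)) a *
      algebraMap _ (Localization.Away (X c : MvPolynomial (Fin (n + 1)) R)) (X c ^ k)
    have he : ∀ i, V (e i) * algebraMap _ (Localization.Away (X c : MvPolynomial (Fin (n + 1)) R)) (X c)
        = algebraMap _ _ (X i : MvPolynomial (Fin (n + 1)) R) := fun i => by
      show val (e i) * _ = _
      rw [Away.val_mk, ← Localization.mk_one_eq_algebraMap, ← Localization.mk_one_eq_algebraMap,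
        Localization.mk_mul, Localization.mk_eq_mk_iff, Localization.r_iff_exists]
      exact ⟨1, by simp [mul_comm]⟩
    rw [map_pow, coe_eval₂Hom, eval₂_eq, hz, Finset.sum_mul]
    conv_lhs => rw [a.as_sum, map_sum]
    refine Finset.sum_congr rfl fun m hm => ?_
    have hdeg : ∑ i ∈ m.support, m i = k := by
      have h := ha (mem_support_iff.mp hm)
      simpa [Finsupp.weight_apply, Finsupp.sum] using h
    rw [← hdeg, ← Finset.prod_pow_eq_pow_sum, mul_assoc, ← Finset.prod_mul_distrib, monomial_eq,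
      Finsupp.prod, map_mul, map_prod, RingHom.comp_apply]
    congr 1
    refine Finset.prod_congr rfl fun i _ => ?_
    rw [← mul_pow, he, map_pow]
  rw [hmk, map_eval₂Hom, show φ.comp z = algebraMap R A from RingHom.ext hφ]
  rfl

theorem point_coords (c : Fin (n + 1)) (φ : Away 𝒢 (X c) →+* A) (hφ : IsAlg c φ) :
    point (R := R) (coords c φ) c (by simp) =
      Spec.map (CommRingCat.ofHom φ) ≫ chart c := by
  conv_rhs => rw [eq_evalAway_coords c φ hφ]
  rfl

theorem isAlg_of_toSpec (c : Fin (n + 1)) (φ : Away 𝒢 (X c) →+* A)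
    (h : Spec.map (CommRingCat.ofHom φ) ≫ chart c ≫
      CohB1.ProjSpace.toSpec n R = Spec.map (CommRingCat.ofHom (algebraMap R A))) : IsAlg c φ := by
  replace h := (congrArg (Spec.map (CommRingCat.ofHom φ) ≫ ·) (awayι_toSpec (R := R) c)).symm.trans h
  simp only [← Spec.map_comp] at h
  intro r
  exact DFunLike.congr_fun (congrArg CommRingCat.Hom.hom (Spec.map_injective h)) r

/-- Two chart maps with the same composite to `Pⁿ` have proportional coordinates. -/
theorem exists_smul_of_comp_eq {c d : Fin (n + 1)} (φ : Away 𝒢 (X c) →+* A)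
    (ψ : Away 𝒢 (X d) →+* A)
    (h : Spec.map (CommRingCat.ofHom φ) ≫ chart c = Spec.map (CommRingCat.ofHom ψ) ≫ chart d) :
    ∃ t : A, IsUnit t ∧ ∀ i, coords d ψ i = t * coords c φ i := by
  let iso := Proj.pullbackAwayιIso 𝒢 (X_mem (R := R) c) one_pos (X_mem d) one_pos
    (x := (X c : MvPolynomial (Fin (n + 1)) R) * X d) rfl
  let L := Limits.pullback.lift (f := Proj.awayι 𝒢 (X c) (X_mem (R := R) c) one_pos)
    (g := Proj.awayι 𝒢 (X d) (X_mem (R := R) d) one_pos) _ _ h ≫ iso.hom
  obtain ⟨g, hg⟩ := Spec.map_surjective L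
  have e1 : φ = g.hom.comp (awayMap 𝒢 (X_mem d) (f := X c) rfl) := by
    have := congrArg CommRingCat.Hom.hom (Spec.map_injective (show Spec.map (CommRingCat.ofHom φ) =
      Spec.map (CommRingCat.ofHom (awayMap 𝒢 (X_mem d) (f := X c) rfl) ≫ g) by
      rw [Spec.map_comp, hg]
      simp only [L, iso, Category.assoc, Proj.pullbackAwayιIso_hom_SpecMap_awayMap_left]
      exact (Limits.pullback.lift_fst _ _ h).symm))
    exact this
  have e2 : ψ = g.hom.comp (awayMap 𝒢 (X_mem c) (f := X d) (mul_comm _ _)) := by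
    have := congrArg CommRingCat.Hom.hom (Spec.map_injective (show Spec.map (CommRingCat.ofHom ψ) =
      Spec.map (CommRingCat.ofHom (awayMap 𝒢 (X_mem c) (f := X d) (mul_comm _ _)) ≫ g) by
      rw [Spec.map_comp, hg]
      simp only [L, iso, Category.assoc, Proj.pullbackAwayιIso_hom_SpecMap_awayMap_right]
      exact (Limits.pullback.lift_snd _ _ h).symm))
    exact this
  have key : ∀ i, coords d ψ i = coords d ψ c * coords c φ i := by
    intro i
    rw [e1, e2]
    simp only [coords, RingHom.comp_apply, ← map_mul]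
    congr 1
    refine val_injective _ ?_
    rw [HomogeneousLocalization.val_mul, awayMap_mk, awayMap_mk, awayMap_mk, Away.val_mk,
      Away.val_mk, Away.val_mk, Localization.mk_mul, Localization.mk_eq_mk_iff,
      Localization.r_iff_exists]
    exact ⟨1, by simp; ring⟩
  refine ⟨coords d ψ c, IsUnit.of_mul_eq_one (b := coords c φ d) ?_, key⟩
  rw [← key d, coords_self]

end Groth.Agent.ProjMap
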