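import Groth.Agent.ProjMap.Segre
import Groth.Agent.CompleteCurve.ProjSpace

/-!
# The finite surjective multiplication map `P¹ × Pᵏ ⟶ Pᵏ⁺¹`
-/

universe u

open CategoryTheory AlgebraicGeometry MvPolynomial HomogeneousLocalization Limits TensorProduct

set_option backward.defeqAttrib.useBackward true
set_option linter.style.haveILetI false
set_option linter.unusedSectionVars false

namespace Groth.Agent.ProjMap

variable (k : ℕ)

/-- The coefficients of the multiplication of polynomials. -/
def multM : Fin (k + 1 + 1) → Fin (1 + 1) → Fin (k + 1) → ℤ :=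
  fun c a b => if a.val + b.val = c.val then 1 else 0

/-- The polynomial with the given coefficients. -/
noncomputable def polyOf {A : Type*} [CommRing A] {l : ℕ} (v : Fin (l + 1) → A) : Polynomial A :=
  ∑ i, Polynomial.monomial i.val (v i)

theorem coeff_polyOf {A : Type*} [CommRing A] {l : ℕ} (v : Fin (l + 1) → A) (i : Fin (l + 1)) :
    (polyOf v).coeff i.val = v i := by
  simp [polyOf, Polynomial.coeff_monomial, ← Fin.ext_iff]

theorem polyOf_eq_of_coeff {A : Type*} [CommRing A] {l : ℕ} (v : Fin (l + 1) → A) (p : Polynomial A)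
    (hp : p.natDegree ≤ l) (h : ∀ i : Fin (l + 1), p.coeff i.val = v i) : polyOf v = p := by
  rw [polyOf, p.as_sum_range' (l + 1) (by omega), Finset.sum_range]
  simp only [h]

theorem natDegree_polyOf {A : Type*} [CommRing A] {l : ℕ} (v : Fin (l + 1) → A) :
    (polyOf v).natDegree ≤ l :=
  Polynomial.natDegree_sum_le_of_forall_le _ _ fun i _ =>
    (Polynomial.natDegree_monomial_le _).trans (by omega)

theorem zval_multM {A : Type*} [CommRing A] (a : Fin (1 + 1) → A) (w : Fin (k + 1) → A)
    (c : Fin (k + 1 + 1)) : zval (multM k) a w c = (polyOf a * polyOf w).coeff c.val := by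
  simp only [zval, multM, polyOf, Finset.sum_mul_sum, Polynomial.finsetSum_coeff,
    Polynomial.monomial_mul_monomial, Polynomial.coeff_monomial]
  refine Finset.sum_congr rfl fun i _ => Finset.sum_congr rfl fun j _ => ?_
  split_ifs <;> simp

theorem multM_nondeg : Nondeg.{u} (multM k) := by
  intro K _ v w hv hw h
  have h0 : polyOf v * polyOf w = 0 := by
    ext c
    by_cases hc : c < k + 1 + 1
    · have := congrFun h ⟨c, hc⟩
      rw [zval_multM] at this
      simpa using this
    · rw [Polynomial.coeff_zero]
      refine Polynomial.coeff_eq_zero_of_natDegree_lt (lt_of_le_of_lt Polynomial.natDegree_mul_le ?_)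
      have h1 := natDegree_polyOf v
      have h2 := natDegree_polyOf w
      omega
  rcases mul_eq_zero.mp h0 with h0 | h0
  · exact hv (funext fun i => by rw [← coeff_polyOf v i, h0, Polynomial.coeff_zero]; rfl)
  · exact hw (funext fun i => by rw [← coeff_polyOf w i, h0, Polynomial.coeff_zero]; rfl)

/-- A polynomial of degree at most `k + 1` over an algebraically closed field factors. -/
theorem exists_factor (K : Type u) [Field K] [IsAlgClosed K] (v : Fin (k + 1 + 1) → K) :
    ∃ (a : Fin (1 + 1) → K) (w : Fin (k + 1) → K), ∀ c, zval (multM k) a w c = v c := by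
  by_cases hl : v (Fin.last (k + 1)) = 0
  · refine ⟨fun i => if i.val = 0 then 1 else 0, fun b => v b.castSucc, fun c => ?_⟩
    rw [zval_multM]
    have h1 : polyOf (fun i : Fin (1 + 1) => if i.val = 0 then (1 : K) else 0) = 1 := by
      refine polyOf_eq_of_coeff _ _ (by simp) fun i => ?_
      rw [Polynomial.coeff_one]
    rw [h1, one_mul]
    rcases Fin.eq_castSucc_or_eq_last c with ⟨b, rfl⟩ | rfl
    · rw [Fin.val_castSucc, coeff_polyOf]
    · rw [hl]
      exact Polynomial.coeff_eq_zero_of_natDegree_lt (lt_of_le_of_lt (natDegree_polyOf _) (by simp))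
  · have hne : (polyOf v).natDegree = k + 1 := le_antisymm (natDegree_polyOf v)
      (Polynomial.le_natDegree_of_ne_zero (ne_of_eq_of_ne (coeff_polyOf v (Fin.last (k + 1))) hl))
    obtain ⟨r, hr⟩ := IsAlgClosed.exists_root (polyOf v) (by
      intro h0
      have := Polynomial.natDegree_eq_of_degree_eq_some (n := 0) h0
      omega)
    obtain ⟨q, hq⟩ := Polynomial.dvd_iff_isRoot.mpr hr
    refine ⟨fun i => if i.val = 0 then -r else 1, fun b => q.coeff b.val, fun c => ?_⟩
    rw [zval_multM]
    have h1 : polyOf (fun i : Fin (1 + 1) => if i.val = 0 then -r else (1 : K)) =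
        Polynomial.X - Polynomial.C r := by
      refine polyOf_eq_of_coeff _ _ (by simp) fun i => ?_
      fin_cases i <;> simp
    have hq0 : q ≠ 0 := by
      rintro rfl
      rw [mul_zero] at hq
      rw [hq] at hne
      simp at hne
    have hdeg : q.natDegree = k := by
      have := congrArg Polynomial.natDegree hq
      rw [hne, Polynomial.natDegree_mul (Polynomial.X_sub_C_ne_zero r) hq0,
        Polynomial.natDegree_X_sub_C] at this
      omega
    rw [h1, polyOf_eq_of_coeff (fun b : Fin (k + 1) => q.coeff b.val) q hdeg.le (fun _ => rfl), ← hq,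
      coeff_polyOf]

variable (R : Type u) [CommRing R]

/-- The multiplication map. -/
noncomputable def multMap : prodPP R 1 k ⟶ CohB1.ProjSpace (k + 1) R :=
  bilinMap R (multM k) (multM_nondeg k)

instance isProper_multMap : IsProper (multMap k R) := by
  haveI : IsProper (pullback.fst (CohB1.ProjSpace.toSpec 1 R) (CohB1.ProjSpace.toSpec k R) ≫
      CohB1.ProjSpace.toSpec 1 R) := inferInstance
  haveI : IsProper (multMap k R ≫ CohB1.ProjSpace.toSpec (k + 1) R) := by
    rw [multMap, bilinMap_toSpec]; infer_instance
  exact IsProper.of_comp (multMap k R) (CohB1.ProjSpace.toSpec (k + 1) R)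

theorem isAffineHom_multMap : IsAffineHom (multMap k R) := by
  let e : Fin (1 + 1) × Fin (k + 1) ≃ Fin (2 * k + 1 + 1) :=
    finProdFinEquiv.trans (finCongr (by ring))
  haveI := isClosedImmersion_segre R e
  refine isAffineHom_of_forall_exists_isAffineOpen _ fun x => ?_
  obtain ⟨c, hc⟩ := exists_chart R x
  refine ⟨(chart (R := R) c).opensRange, hc, isAffineOpen_opensRange _, ?_⟩
  let F : MvPolynomial (Fin (2 * k + 1 + 1)) R :=
    ∑ a, ∑ b, (multM k c a b) • X (e (a, b))
  have hF : F ∈ CohB1.polyGrading (2 * k + 1) R 1 :=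
    Submodule.sum_mem _ fun a _ => Submodule.sum_mem _ fun b _ => zsmul_mem (X_mem _) _
  have heq : multMap k R ⁻¹ᵁ (chart (R := R) c).opensRange =
      segre R e ⁻¹ᵁ Proj.basicOpen (CohB1.polyGrading (2 * k + 1) R) F := by
    ext p
    obtain ⟨i, j, y, rfl⟩ := exists_chartXY R p
    rw [mem_opensRange_chart]
    refine (SetLike.ext_iff.mp (chartXY_bilinMap_preimage R (multM k) (multM_nondeg k) i j
      one_pos (X_mem c)) y).trans ?_
    refine Iff.trans ?_ (SetLike.ext_iff.mp (chartXY_bilinMap_preimage R (segreM e) (segreM_nondeg e) i j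
      one_pos hF) y).symm
    suffices h : aeval (zPiece R (segreM e) i j) F = aeval (zPiece R (multM k) i j) (X c) by
      rw [h]
    simp only [F, map_sum, map_zsmul, aeval_X, zPiece, zval_segreM]
    rfl
  rw [heq]
  haveI hs : IsAffineHom (segre R e) := inferInstance
  exact @IsAffineOpen.preimage _ (CohB1.ProjSpace (2 * k + 1) R) _ (Proj.isAffineOpen_basicOpen _ _ hF one_pos) (segre R e) hs

theorem isFinite_multMap : IsFinite (multMap k R) :=
  IsFinite.iff_isProper_and_isAffineHom.mpr ⟨inferInstance, isAffineHom_multMap k R⟩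

/-- The tensor product of the chart evaluations. -/
noncomputable def evalPiece {K : Type u} [CommRing K] [Algebra R K] {n m : ℕ} (a : Fin (n + 1) → K)
    (w : Fin (m + 1) → K) (i : Fin (n + 1)) (j : Fin (m + 1)) (hi : IsUnit (a i)) (hj : IsUnit (w j)) :
    pieceRing R n m i j →ₐ[R] K :=
  Algebra.TensorProduct.productMap
    ({ evalAway (R := R) a (X i) (by simpa using hi) with
        commutes' := evalAway_fromZero a (X i) (by simpa using hi) } : AwayX R n i →ₐ[R] K)
    ({ evalAway (R := R) w (X j) (by simpa using hj) with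
        commutes' := evalAway_fromZero w (X j) (by simpa using hj) } : AwayX R m j →ₐ[R] K)

theorem evalPiece_coordsL {K : Type u} [CommRing K] [Algebra R K] {n m : ℕ} (a : Fin (n + 1) → K)
    (w : Fin (m + 1) → K) (i : Fin (n + 1)) (j : Fin (m + 1)) (hi : IsUnit (a i)) (hj : IsUnit (w j))
    (d : Fin (n + 1)) : a d = a i * evalPiece R a w i j hi hj (coordsL R i j d) := by
  rw [evalPiece, coordsL, coords, inclL]
  simp only [AlgHom.toRingHom_eq_coe, RingHom.coe_coe, Algebra.TensorProduct.includeLeft_apply,
    Algebra.TensorProduct.productMap_apply_tmul, map_one, mul_one]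
  have h := evalAway_mk (v := a) (X_mem (R := R) i) (by simpa using hi) 1 (X d) (by simpa using X_mem (R := R) d)
  simp only [aeval_X, pow_one] at h
  rw [mul_comm] at h
  exact h.symm

theorem evalPiece_coordsR {K : Type u} [CommRing K] [Algebra R K] {n m : ℕ} (a : Fin (n + 1) → K)
    (w : Fin (m + 1) → K) (i : Fin (n + 1)) (j : Fin (m + 1)) (hi : IsUnit (a i)) (hj : IsUnit (w j))
    (d : Fin (m + 1)) : w d = w j * evalPiece R a w i j hi hj (coordsR R i j d) := by
  rw [evalPiece, coordsR, coords, inclR]
  simp only [AlgHom.toRingHom_eq_coe, RingHom.coe_coe, Algebra.TensorProduct.includeRight_apply,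
    Algebra.TensorProduct.productMap_apply_tmul, map_one, one_mul]
  have h := evalAway_mk (v := w) (X_mem (R := R) j) (by simpa using hj) 1 (X d) (by simpa using X_mem (R := R) d)
  simp only [aeval_X, pow_one] at h
  rw [mul_comm] at h
  exact h.symm

/-- A field valued point whose coordinates are the values of the forms is in the image. -/
theorem point_mem_range_bilinMap {n m N : ℕ} (M : Fin (N + 1) → Fin (n + 1) → Fin (m + 1) → ℤ)
    (hM : Nondeg.{u} M) {K : Type u} [Field K] [Algebra R K] (a : Fin (n + 1) → K)
    (w : Fin (m + 1) → K) (c : Fin (N + 1)) (hc : IsUnit (zval M a w c))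
    (x : Spec (CommRingCat.of K)) :
    point (R := R) (zval M a w) c hc x ∈ Set.range (bilinMap R M hM) := by
  obtain ⟨i, hi⟩ : ∃ i, a i ≠ 0 := by
    by_contra h
    push Not at h
    exact hc.ne_zero (by simp [zval, h])
  obtain ⟨j, hj⟩ : ∃ j, w j ≠ 0 := by
    by_contra h
    push Not at h
    exact hc.ne_zero (by simp [zval, h])
  have hi' : IsUnit (a i) := hi.isUnit
  have hj' : IsUnit (w j) := hj.isUnit
  let h := evalPiece R a w i j hi' hj'
  have hz : ∀ d, zval M a w d = a i * w j * h (zPiece R M i j d) := fun d => by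
    rw [show h (zPiece R M i j d) = h.toRingHom (zval M (coordsL R i j) (coordsR R i j) d) from rfl,
      map_zval]
    exact zval_smul M (evalPiece_coordsL R a w i j hi' hj') (evalPiece_coordsR R a w i j hi' hj') d
  have hu : IsUnit (h.toRingHom (zPiece R M i j c)) := by
    have := hc
    rw [hz c] at this
    exact (IsUnit.mul_iff.mp this).2
  let g : locRing R M (i, j, c) →+* K := IsLocalization.Away.lift (zPiece R M i j c) hu
  have hg : ∀ z, g (algebraMap _ _ z) = h z := fun z => IsLocalization.Away.lift_eq _ _ z
  have hgr : ∀ r, g (algebraMap R (locRing R M (i, j, c)) r) = algebraMap R K r := fun r => by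
    rw [IsScalarTower.algebraMap_apply R (pieceRing R n m i j) (locRing R M (i, j, c)), hg]
    exact h.commutes r
  have key : Spec.map (CommRingCat.ofHom g) ≫ pieceι R M (i, j, c) ≫ bilinMap R M hM =
      point (R := R) (zval M a w) c hc := by
    rw [pieceι_bilinMap, pieceMap, specMap_point g hgr]
    refine (point_smul (R := R) _ _ (a i * w j) (fun d => ?_) c _ _).symm
    rw [hg]
    exact hz d
  rw [← key]
  exact ⟨_, rfl⟩

theorem surjective_multMap : Surjective (multMap k R) := by
  refine ⟨fun x => ?_⟩
  obtain ⟨c, y, rfl⟩ := exists_chart R x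
  let K := AlgebraicClosure y.asIdeal.ResidueField
  let φ : AwayX R (k + 1) c →+* K :=
    (algebraMap y.asIdeal.ResidueField K).comp (algebraMap _ y.asIdeal.ResidueField)
  letI : Algebra R K := (φ.comp (algebraMap R (AwayX R (k + 1) c))).toAlgebra
  obtain ⟨a, w, h⟩ := exists_factor k K (coords c φ)
  have hv : zval (multM k) a w = coords c φ := funext h
  have hu : IsUnit (zval (multM k) a w c) := by rw [hv, coords_self]; exact isUnit_one
  let p : PrimeSpectrum K := ⟨⊥, Ideal.isPrime_bot⟩
  have hp : Spec.map (CommRingCat.ofHom φ) p = y := by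
    refine PrimeSpectrum.ext ?_
    show Ideal.comap φ ⊥ = y.asIdeal
    ext z
    simp [φ, Ideal.algebraMap_residueField_eq_zero]
  have := point_mem_range_bilinMap R (multM k) (multM_nondeg k) a w c hu p
  simp only [hv] at this
  rw [point_coords c φ (fun r => rfl), Scheme.Hom.comp_apply, hp] at this
  exact this

end Groth.Agent.ProjMap
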